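import Groth.Agent.L15.OrthSm.Qs
import Mathlib.LinearAlgebra.Matrix.ToLinearEquiv
import Mathlib.LinearAlgebra.Dual.Lemmas
import Mathlib.RingTheory.Ideal.Quotient.Basic
import Mathlib.RingTheory.Ideal.Quotient.Operations
import Mathlib.RingTheory.Nakayama
import Mathlib.RingTheory.Polynomial.Quotient
import Mathlib.RingTheory.AdjoinRoot

/-!
Infinitesimal lifting of isometries.
-/

set_option autoImplicit false

noncomputable section

universe u v

open Matrix

namespace Groth.L15.OrthSm

variable {R : Type u} [CommRing R] {n : ℕ}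

/-- Solvability of the linearised equation with prescribed trace, over a field of
characteristic two. -/
theorem kernel_props {k : Type u} [Field k] (hn : Odd n) (h2 : (2 : k) = 0)
    (β : Matrix (Fin n) (Fin n) k) (hβ : hd (qs β) ≠ 0) :
    ∃ v : Fin n → k, v ≠ 0 ∧ (β + βᵀ) *ᵥ v = 0 ∧ v ⬝ᵥ (β *ᵥ v) ≠ 0 ∧
      ∀ w, (β + βᵀ) *ᵥ w = 0 → ∃ a : k, w = a • v := by
  classical
  obtain ⟨m, rfl⟩ : ∃ m, n = m + 1 := ⟨n - 1, by obtain ⟨j, hj⟩ := hn; omega⟩
  set P := β + βᵀ with hP
  obtain ⟨v, hv, hPv⟩ := (Matrix.exists_mulVec_eq_zero_iff (M := P)).2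
    (by rw [hP, ← two_mul_hd hn, h2, zero_mul])
  obtain ⟨r, hr⟩ := Function.ne_iff.1 hv
  -- an invertible matrix with first column `v`
  let σ : Equiv.Perm (Fin (m + 1)) := Equiv.swap 0 r
  let G : Matrix (Fin (m + 1)) (Fin (m + 1)) k :=
    ((1 : Matrix _ _ k).updateCol r v).submatrix id σ
  have hG : G.det ≠ 0 := by
    rw [Matrix.det_permute', ← Matrix.cramer_apply, Matrix.cramer_one]
    have : ((Equiv.Perm.sign σ : ℤ) : k) ≠ 0 := by
      rcases Int.units_eq_one_or (Equiv.Perm.sign σ) with h | h <;> simp [h]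
    exact mul_ne_zero this hr
  have hG0 : G *ᵥ Pi.single 0 1 = v := by
    funext i
    rw [Matrix.mulVec_single_one, Matrix.col_apply]
    simp [G, σ]
  let T := Gᵀ * β * G
  have hT : hd (qs T) ≠ 0 := by
    rw [hd_congr hn]; exact mul_ne_zero (pow_ne_zero _ hG) hβ
  have hTP : T + Tᵀ = Gᵀ * P * G := by
    simp only [T, hP, transpose_mul, transpose_transpose, Matrix.mul_add, Matrix.add_mul,
      Matrix.mul_assoc]
  have hcol : ∀ i, (T + Tᵀ) i 0 = 0 := by
    intro i
    have : (T + Tᵀ) *ᵥ Pi.single 0 1 = 0 := by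
      rw [hTP, ← mulVec_mulVec, hG0, ← mulVec_mulVec, hPv, mulVec_zero]
    have := congrFun this i
    rwa [Matrix.mulVec_single_one] at this
  have horth := halfDisc_eq_of_orth hn (Pi.basisFun k (Fin (m + 1))) (matForm T) (fun j => by
    rw [polar_matForm]
    have := hcol j.succ
    simp only [Matrix.add_apply, Matrix.transpose_apply] at this
    rw [add_comm]; exact this)
  rw [hd_matForm] at horth
  rw [horth] at hT
  obtain ⟨hq, hsub⟩ := mul_ne_zero_iff.1 hT
  refine ⟨v, hv, hPv, ?_, fun w hw => ?_⟩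
  · rw [← matForm_dot, ← hG0, matForm_mulVec]
    rwa [Pi.basisFun_apply] at hq
  · let u := G⁻¹ *ᵥ w
    have hGu : G *ᵥ u = w := by
      rw [mulVec_mulVec, Matrix.mul_nonsing_inv _ (IsUnit.mk0 _ hG), one_mulVec]
    have hu : (T + Tᵀ) *ᵥ u = 0 := by
      rw [hTP, ← mulVec_mulVec, hGu, ← mulVec_mulVec, hw, mulVec_zero]
    have htail : (fun i : Fin m => u i.succ) = 0 := by
      refine Matrix.eq_zero_of_mulVec_eq_zero hsub (funext fun i => ?_)
      have h := congrFun hu i.succ
      rw [Matrix.mulVec, dotProduct, Fin.sum_univ_succ, hcol, zero_mul, zero_add] at h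
      rw [Pi.zero_apply, Matrix.mulVec, dotProduct]
      refine Eq.trans (Finset.sum_congr rfl fun j _ => ?_) h
      congr 1
      exact polar_matForm T i.succ j.succ
    refine ⟨u 0, ?_⟩
    have hu0 : u = u 0 • Pi.single 0 1 := by
      funext i
      refine Fin.cases ?_ (fun j => ?_) i
      · simp
      · have := congrFun htail j
        simp only [Pi.zero_apply] at this
        simp [this, Fin.succ_ne_zero]
    rw [← hGu, hu0, Matrix.mulVec_smul, hG0, Pi.smul_apply, Pi.single_eq_same, smul_eq_mul, mul_one]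

/-- The linearisation, restricted to trace zero, plus one extra direction. -/
def linMap (β : Matrix (Fin n) (Fin n) R) (r : Fin n) (a b : R) :
    (Matrix (Fin n) (Fin n) R × R) →ₗ[R] (Sym2 (Fin n) → R) :=
  (qs.comp ((LinearMap.mulLeft R (β + βᵀ)).comp
    (LinearMap.id - (LinearMap.smulRight (Matrix.traceLinearMap (Fin n) R R) (Matrix.single r r 1))))).coprod
    (LinearMap.toSpanSingleton R _ (a • qs β + b • qs ((β + βᵀ) * Matrix.single r r 1)))

theorem linMap_apply (β : Matrix (Fin n) (Fin n) R) (r : Fin n) (a b : R)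
    (h : Matrix (Fin n) (Fin n) R) (t : R) :
    linMap β r a b (h, t) = qs ((β + βᵀ) * (h - h.trace • Matrix.single r r 1)) +
      t • (a • qs β + b • qs ((β + βᵀ) * Matrix.single r r 1)) := rfl

theorem linMap_map {S : Type v} [CommRing S] (f : R →+* S) (β : Matrix (Fin n) (Fin n) R) (r : Fin n)
    (a b : R) (h : Matrix (Fin n) (Fin n) R) (t : R) :
    f ∘ linMap β r a b (h, t) = linMap (β.map f) r (f a) (f b) (h.map f, f t) := by
  have e1 : (β + βᵀ).map f = β.map f + (β.map f)ᵀ := by ext i j; simp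
  have e2 : (Matrix.single r r (1 : R)).map f = Matrix.single r r (1 : S) := by
    rw [Matrix.map_single _ _ _ f]; simp
  rw [linMap_apply, linMap_apply, ← e1, ← e2]
  funext s
  simp only [Function.comp_apply, Pi.add_apply, Pi.smul_apply, smul_eq_mul, map_add, map_mul]
  have e3 : ∀ M : Matrix (Fin n) (Fin n) R, f (qs M s) = qs (M.map f) s := fun M => by rw [qs_map]; rfl
  have e4 : (h.map f).trace = f h.trace := by simp [Matrix.trace]
  simp only [e3, Function.comp_apply]
  congr 2
  · congr 1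
    rw [e4, Matrix.map_mul, Matrix.map_sub _ (map_sub f),
      show (h.trace • Matrix.single r r (1 : R)).map f =
        f h.trace • (Matrix.single r r (1 : R)).map f by
        ext i j; simp [Matrix.single_apply, apply_ite f, mul_ite]]
  · rw [← Matrix.map_mul, qs_map, Function.comp_apply]

theorem surjective_field {k : Type u} [Field k] (hn : Odd n) (β : Matrix (Fin n) (Fin n) k)
    (hβ : hd (qs β) ≠ 0) (r : Fin n) (a b : k) (hab : a * n + b * 2 = 1) :
    Function.Surjective (linMap β r a b) := by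
  classical
  rw [← LinearMap.range_eq_top]
  by_contra hne
  obtain ⟨lam, hlam, hle⟩ := Submodule.exists_le_ker_of_lt_top _ (lt_top_iff_ne_top.2 hne)
  have hker : ∀ h t, lam (linMap β r a b (h, t)) = 0 := fun h t => hle ⟨(h, t), rfl⟩
  let L : Matrix (Fin n) (Fin n) k := Matrix.of fun i j => lam (qs (Matrix.single i j 1))
  have hLsymm : ∀ i j, L i j = L j i := fun i j => by
    simp only [L, Matrix.of_apply]
    rw [← qs_transpose (Matrix.single i j (1 : k)), Matrix.transpose_single]
  have hL : ∀ T, lam (qs T) = (L * T).trace := by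
    intro T
    conv_lhs => rw [Matrix.matrix_eq_sum_single T]
    simp only [map_sum, Matrix.trace, Matrix.diag_apply, Matrix.mul_apply]
    rw [Finset.sum_comm]
    refine Finset.sum_congr rfl fun j _ => Finset.sum_congr rfl fun i _ => ?_
    rw [show Matrix.single i j (T i j) = T i j • Matrix.single i j (1 : k) by simp, map_smul,
      map_smul, smul_eq_mul, hLsymm j i, mul_comm]
    rfl
  set P := β + βᵀ with hP
  -- trace-zero directions
  have hsl : ∀ h : Matrix (Fin n) (Fin n) k, (L * P * h).trace = (L * P) r r * h.trace := by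
    intro h
    have h1 := hker h 0
    rw [linMap_apply, zero_smul, add_zero, hL, ← Matrix.mul_assoc, Matrix.mul_sub, Matrix.trace_sub,
      Matrix.mul_smul, Matrix.trace_smul, smul_eq_mul, sub_eq_zero, ← hP] at h1
    rw [h1, Matrix.trace_mul_single]
    simp
    ring
  set μ := (L * P) r r
  have hLP : L * P = μ • 1 := by
    refine Matrix.ext_iff_trace_mul_right.2 fun h => ?_
    rw [hsl, Matrix.smul_mul, Matrix.one_mul, Matrix.trace_smul, smul_eq_mul]
  have hw : a * lam (qs β) + b * μ = 0 := by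
    have h1 := hker 0 1
    rw [linMap_apply, map_add, one_smul] at h1
    simp only [Matrix.trace_zero, zero_smul, sub_zero, Matrix.mul_zero, map_zero, zero_add,
      map_smul, smul_eq_mul, map_add, hL, ← hP] at h1
    rw [← Matrix.mul_assoc, hLP, Matrix.smul_mul, Matrix.one_mul, Matrix.trace_smul,
      Matrix.trace_single_eq_same, smul_eq_mul, mul_one] at h1
    rw [hL]; exact h1
  have hP2 : 2 * (L * β).trace = μ * n := by
    have h1 : (L * P).trace = μ * n := by
      rw [hLP, Matrix.trace_smul, Matrix.trace_one, Fintype.card_fin, smul_eq_mul]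
    rw [← h1, hP, Matrix.mul_add, Matrix.trace_add, ← Matrix.trace_transpose (L * βᵀ),
      transpose_mul, transpose_transpose, Matrix.trace_mul_comm,
      show Lᵀ = L from Matrix.ext fun i j => hLsymm j i]
    ring
  apply hlam
  suffices hL0 : L = 0 by
    refine LinearMap.ext fun δ => ?_
    rw [← qs_up δ, hL, hL0]
    simp
  by_cases h2 : (2 : k) = 0
  · -- characteristic two
    have hμ : μ = 0 := by
      have hdet := congrArg Matrix.det hLP
      rw [Matrix.det_mul, hP, ← two_mul_hd hn, h2, zero_mul, mul_zero, Matrix.det_smul,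
        Matrix.det_one, mul_one, Fintype.card_fin] at hdet
      exact pow_eq_zero_iff (by obtain ⟨j, hj⟩ := hn; omega) |>.1 hdet.symm
    obtain ⟨v, hv, hPv, hqv, huniq⟩ := kernel_props hn h2 β hβ
    have hcols : ∀ j, ∃ c : k, (fun i => L i j) = c • v := by
      intro j
      refine huniq _ (funext fun i => ?_)
      have := congrFun (congrFun hLP j) i
      rw [hμ, zero_smul, Matrix.mul_apply] at this
      rw [Matrix.mulVec, dotProduct, ← hP, Pi.zero_apply]
      refine Eq.trans (Finset.sum_congr rfl fun l _ => ?_) this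
      rw [hLsymm l j, mul_comm, hP, Matrix.add_apply, Matrix.add_apply, Matrix.transpose_apply,
        Matrix.transpose_apply, add_comm]
    choose c hc using hcols
    have hLc : ∀ i j, L i j = c j * v i := fun i j => congrFun (hc j) i
    obtain ⟨i₀, hi₀⟩ := Function.ne_iff.1 hv
    let α := c i₀ / v i₀
    have hLv : ∀ i j, L i j = α * v j * v i := by
      intro i j
      have h1 := hLsymm i₀ j
      rw [hLc, hLc] at h1
      rw [hLc]
      have : c j = α * v j := by
        simp only [α]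
        rw [div_mul_eq_mul_div, eq_div_iff hi₀]
        exact h1
      rw [this]
    have hlamβ : lam (qs β) = α * (v ⬝ᵥ (β *ᵥ v)) := by
      rw [hL, dotProduct, Finset.mul_sum, Matrix.trace]
      simp only [Matrix.diag_apply, Matrix.mul_apply, hLv, Matrix.mulVec, dotProduct, Finset.mul_sum]
      rw [Finset.sum_comm]
      exact Finset.sum_congr rfl fun i _ => Finset.sum_congr rfl fun j _ => by ring
    have ha : a ≠ 0 := fun ha => by rw [ha, zero_mul, zero_add, h2, mul_zero] at hab; exact zero_ne_one hab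
    rw [hμ, mul_zero, add_zero, hlamβ] at hw
    have hα : α = 0 := by simpa [ha, hqv] using hw
    ext i j
    rw [hLv, hα, zero_mul, zero_mul]
    rfl
  · have hμ : μ = 0 := by
      rw [hL] at hw
      linear_combination (2 : k) * hw - μ * hab - a * hP2
    have hdetP : IsUnit P.det := by
      rw [hP, ← two_mul_hd hn]; exact IsUnit.mk0 _ (mul_ne_zero h2 hβ)
    rw [hμ, zero_smul] at hLP
    have := congrArg (· * P⁻¹) hLP
    simpa [Matrix.mul_nonsing_inv _ hdetP, Matrix.mul_assoc] using this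

/-- The linearised equation with prescribed trace is solvable in any semiregular odd rank. -/
theorem surjective_linMap (hn : Odd n) (β : Matrix (Fin n) (Fin n) R) (hβ : IsUnit (hd (qs β)))
    (r : Fin n) (a b : R) (hab : a * n + b * 2 = 1) :
    Function.Surjective (linMap β r a b) := by
  classical
  rw [← LinearMap.range_eq_top]
  set N := LinearMap.range (linMap β r a b)
  have hmax : ∀ 𝔪 : Ideal R, 𝔪.IsMaximal → (⊤ : Submodule R (Sym2 (Fin n) → R)) ≤ N ⊔ 𝔪 • ⊤ := by
    intro 𝔪 h𝔪 δ _
    letI := Ideal.Quotient.field 𝔪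
    let f := Ideal.Quotient.mk 𝔪
    have hβk : hd (qs (β.map f)) ≠ 0 := by
      rw [qs_map, ← hd_map]; exact (hβ.map f).ne_zero
    have habk : f a * (n : R ⧸ 𝔪) + f b * 2 = 1 := by
      have := congrArg f hab
      simpa [map_ofNat] using this
    obtain ⟨⟨hk, tk⟩, hsol⟩ := surjective_field hn (β.map f) hβk r (f a) (f b) habk (f ∘ δ)
    choose g hg using fun i j => Ideal.Quotient.mk_surjective (hk i j)
    obtain ⟨t, rfl⟩ := Ideal.Quotient.mk_surjective tk
    have hgk : (Matrix.of g).map f = hk := by ext i j; exact hg i j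
    rw [← hgk, ← linMap_map] at hsol
    rw [← add_sub_cancel (linMap β r a b (Matrix.of g, t)) δ]
    refine Submodule.add_mem_sup ⟨_, rfl⟩ ?_
    rw [pi_eq_sum_univ (δ - linMap β r a b (Matrix.of g, t))]
    refine sum_mem fun s _ => Submodule.smul_mem_smul ?_ Submodule.mem_top
    rw [← Ideal.Quotient.eq_zero_iff_mem, Pi.sub_apply, map_sub, sub_eq_zero]
    exact (congrFun hsol s).symm
  by_contra hne
  haveI : Module.Finite R ((Sym2 (Fin n) → R) ⧸ N) := inferInstance
  have hann : Module.annihilator R ((Sym2 (Fin n) → R) ⧸ N) = ⊤ := by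
    by_contra hann
    obtain ⟨𝔪, h𝔪, hle⟩ := Ideal.exists_le_maximal _ hann
    have hsup := hmax 𝔪 h𝔪
    have htop : (⊤ : Submodule R ((Sym2 (Fin n) → R) ⧸ N)) ≤ 𝔪 • ⊤ := by
      calc (⊤ : Submodule R ((Sym2 (Fin n) → R) ⧸ N)) = (⊤ : Submodule R _).map N.mkQ := by
            rw [Submodule.map_top, Submodule.range_mkQ]
        _ ≤ (N ⊔ 𝔪 • ⊤).map N.mkQ := Submodule.map_mono hsup
        _ ≤ 𝔪 • ⊤ := by
            rw [Submodule.map_sup, Submodule.map_smul'', Submodule.mkQ_map_self, bot_sup_eq]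
            exact Submodule.smul_mono le_rfl le_top
    obtain ⟨x, hx1, hx0⟩ :=
      Submodule.exists_sub_one_mem_and_smul_eq_zero_of_fg_of_le_smul 𝔪 ⊤ Module.Finite.fg_top htop
    have hxm : x ∈ 𝔪 := hle (Module.mem_annihilator.2 fun q => hx0 q Submodule.mem_top)
    exact h𝔪.ne_top ((Ideal.eq_top_iff_one _).2 (by simpa using 𝔪.sub_mem hxm hx1))
  refine hne (eq_top_iff.2 fun δ _ => ?_)
  have h1 := Module.mem_annihilator.1 (hann ▸ Submodule.mem_top : (1 : R) ∈ _) (N.mkQ δ)
  rw [one_smul, Submodule.mkQ_apply, Submodule.Quotient.mk_eq_zero] at h1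
  exact h1

/-- The lifting property. -/
def Lifts (β : Matrix (Fin n) (Fin n) R) (sp : Prop) : Prop :=
  ∀ (S : Type u) [CommRing S] [Algebra R S] (I : Ideal S), I ^ 2 = ⊥ →
    ∀ M₀ : Matrix (Fin n) (Fin n) (S ⧸ I),
      qs (M₀ᵀ * β.map (algebraMap R (S ⧸ I)) * M₀) = qs (β.map (algebraMap R (S ⧸ I))) →
      IsUnit M₀.det → (sp → M₀.det = 1) →
      ∃ M : Matrix (Fin n) (Fin n) S, M.map (Ideal.Quotient.mk I) = M₀ ∧
        qs (Mᵀ * β.map (algebraMap R S) * M) = qs (β.map (algebraMap R S)) ∧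
        IsUnit M.det ∧ (sp → M.det = 1)

section

variable {S : Type u} [CommRing S] [Algebra R S] {I : Ideal S}

theorem mul_eq_zero_of_mem (hI : I ^ 2 = ⊥) {x y : S} (hx : x ∈ I) (hy : y ∈ I) : x * y = 0 := by
  rw [← Submodule.mem_bot S, ← hI, pow_two]; exact Ideal.mul_mem_mul hx hy

theorem map_map_quot (β : Matrix (Fin n) (Fin n) R) :
    (β.map (algebraMap R S)).map (Ideal.Quotient.mk I) = β.map (algebraMap R (S ⧸ I)) := by
  ext i j; rfl

theorem isUnit_det_lift (hI : I ^ 2 = ⊥) {M : Matrix (Fin n) (Fin n) S} {M₀ : Matrix (Fin n) (Fin n) (S ⧸ I)}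
    (hM : M.map (Ideal.Quotient.mk I) = M₀) (hu : IsUnit M₀.det) : IsUnit M.det := by
  rw [← hM, ← RingHom.mapMatrix_apply, ← RingHom.map_det] at hu
  obtain ⟨y, hy⟩ := Ideal.Quotient.mk_surjective (↑hu.unit⁻¹ : S ⧸ I)
  have hmem : M.det * y - 1 ∈ I := by
    rw [← Ideal.Quotient.eq, map_mul, hy, map_one]; exact hu.mul_val_inv
  refine IsUnit.of_mul_eq_one (y * (1 - (M.det * y - 1))) ?_
  have := mul_eq_zero_of_mem hI hmem hmem
  linear_combination -this

/-- Correcting a lift by `1 + h`. -/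
theorem correct (hI : I ^ 2 = ⊥) {β : Matrix (Fin n) (Fin n) S} {M : Matrix (Fin n) (Fin n) S}
    (hC : qs (Mᵀ * β * M) - qs β ∈ (Submodule.pi Set.univ fun _ : Sym2 (Fin n) => I))
    {h : Matrix (Fin n) (Fin n) S} (hh : ∀ i j, h i j ∈ I)
    (heq : qs ((β + βᵀ) * h) = -(qs (Mᵀ * β * M) - qs β)) :
    qs ((M * (1 + h))ᵀ * β * (M * (1 + h))) = qs β := by
  set γ := Mᵀ * β * M
  have hsymm : ∀ i j, ((γ + γᵀ) - (β + βᵀ)) i j ∈ I := fun i j => by
    have h1 := hC s(i, j) (Set.mem_univ _)
    rw [Pi.sub_apply, qs_mk, qs_mk] at h1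
    by_cases hij : i = j
    · subst hij
      rw [if_pos rfl, if_pos rfl] at h1
      simpa [two_mul, sub_add_sub_comm] using I.mul_mem_left 2 h1
    · rw [if_neg hij, if_neg hij] at h1
      simpa using h1
  have hzero : ((γ + γᵀ) - (β + βᵀ)) * h = 0 := by
    ext i j
    rw [Matrix.mul_apply, Matrix.zero_apply]
    exact Finset.sum_eq_zero fun l _ => mul_eq_zero_of_mem hI (hsymm i l) (hh l j)
  rw [Matrix.sub_mul, sub_eq_zero] at hzero
  have e : (M * (1 + h))ᵀ * β * (M * (1 + h)) = (1 + h)ᵀ * γ * (1 + h) := by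
    simp only [γ, transpose_mul, Matrix.mul_assoc]
  rw [e, expand_congr _ _ (fun i j a b => mul_eq_zero_of_mem hI (hh i j) (hh a b)), hzero, heq]
  abel

theorem map_one_add {M : Matrix (Fin n) (Fin n) S} {h : Matrix (Fin n) (Fin n) S} (hh : ∀ i j, h i j ∈ I) :
    (M * (1 + h)).map (Ideal.Quotient.mk I) = M.map (Ideal.Quotient.mk I) := by
  rw [Matrix.map_mul]
  have : (1 + h).map (Ideal.Quotient.mk I) = 1 := by
    ext i j
    simp [Matrix.one_apply, apply_ite (Ideal.Quotient.mk I), Ideal.Quotient.eq_zero_iff_mem.2 (hh i j)]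
  rw [this, Matrix.mul_one]

theorem diff_mem {β : Matrix (Fin n) (Fin n) R} {M : Matrix (Fin n) (Fin n) S}
    {M₀ : Matrix (Fin n) (Fin n) (S ⧸ I)} (hM : M.map (Ideal.Quotient.mk I) = M₀)
    (h₀ : qs (M₀ᵀ * β.map (algebraMap R (S ⧸ I)) * M₀) = qs (β.map (algebraMap R (S ⧸ I)))) :
    qs (Mᵀ * β.map (algebraMap R S) * M) - qs (β.map (algebraMap R S)) ∈
      (Submodule.pi Set.univ fun _ : Sym2 (Fin n) => I) := by
  rintro s -
  rw [Pi.sub_apply]
  apply Ideal.Quotient.eq.1
  have e : (Mᵀ * β.map (algebraMap R S) * M).map (Ideal.Quotient.mk I) =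
      M₀ᵀ * β.map (algebraMap R (S ⧸ I)) * M₀ := by
    rw [Matrix.map_mul, Matrix.map_mul, transpose_map, hM, map_map_quot]
  have := congrFun h₀ s
  rw [← e, ← map_map_quot (S := S) (I := I), qs_map, qs_map] at this
  exact this

end

/-- Regular forms: isometries lift. -/
theorem lifts_of_regular (β : Matrix (Fin n) (Fin n) R) (hβ : IsUnit (β + βᵀ).det) (sp : Prop)
    (hsp : sp → IsUnit (2 : R)) : Lifts β sp := by
  classical
  intro S _ _ I hI M₀ h₀ hu hdet
  choose g hg using fun i j => Ideal.Quotient.mk_surjective (M₀ i j)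
  have hM : (Matrix.of g).map (Ideal.Quotient.mk I) = M₀ := by ext i j; exact hg i j
  set M := Matrix.of g
  set βS := β.map (algebraMap R S) with hβS
  have hC := diff_mem hM h₀
  have hP : IsUnit (βS + βSᵀ).det := by
    rw [hβS, ← transpose_map, ← Matrix.map_add _ (map_add _), ← RingHom.mapMatrix_apply,
      ← RingHom.map_det]
    exact hβ.map _
  set δ := qs (Mᵀ * βS * M) - qs βS
  let h := -((βS + βSᵀ)⁻¹ * up δ)
  have hh : ∀ i j, h i j ∈ I := fun i j => by
    simp only [h, Matrix.neg_apply, Matrix.mul_apply]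
    refine I.neg_mem (Ideal.sum_mem _ fun l _ => I.mul_mem_left _ ?_)
    simp only [up, LinearMap.coe_mk, AddHom.coe_mk, Matrix.of_apply]
    split_ifs
    · exact hC _ (Set.mem_univ _)
    · exact I.zero_mem
  have heq : qs ((βS + βSᵀ) * h) = -δ := by
    simp only [h, Matrix.mul_neg, map_neg, ← Matrix.mul_assoc, Matrix.mul_nonsing_inv _ hP,
      Matrix.one_mul, qs_up]
  have hiso := correct hI hC hh heq
  have hM' : (M * (1 + h)).map (Ideal.Quotient.mk I) = M₀ := (map_one_add hh).trans hM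
  have hu' := isUnit_det_lift hI hM' hu
  refine ⟨_, hM', hiso, hu', fun hs => ?_⟩
  have hd2 : (M * (1 + h)).det ^ 2 = 1 := by
    have e := congrArg Matrix.det (qs_eq_of_eq hiso)
    rw [show ∀ N : Matrix (Fin n) (Fin n) S, (Nᵀ * βS * N) + (Nᵀ * βS * N)ᵀ = Nᵀ * (βS + βSᵀ) * N from
      fun N => by simp only [transpose_mul, transpose_transpose, Matrix.mul_add, Matrix.add_mul,
        Matrix.mul_assoc], Matrix.det_mul, Matrix.det_mul, Matrix.det_transpose] at e
    refine hP.mul_right_cancel ?_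
    linear_combination e
  have h1 : (M * (1 + h)).det - 1 ∈ I := by
    rw [← Ideal.Quotient.eq, map_one, RingHom.map_det, RingHom.mapMatrix_apply, hM']
    exact hdet hs
  have h2 : IsUnit (2 + ((M * (1 + h)).det - 1)) := by
    obtain ⟨u, hu2⟩ := ((hsp hs).map (algebraMap R S)).exists_right_inv
    rw [map_ofNat] at hu2
    refine IsUnit.of_mul_eq_one (u - u * u * ((M * (1 + h)).det - 1)) ?_
    have := mul_eq_zero_of_mem hI h1 (I.mul_mem_left (u * u) h1)
    linear_combination -this + (1 - u * ((M * (1 + h)).det - 1)) * hu2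
  have h3 : ((M * (1 + h)).det - 1) * (2 + ((M * (1 + h)).det - 1)) = 0 := by linear_combination hd2
  exact sub_eq_zero.1 (h2.mul_left_eq_zero.1 h3)

/-- Semiregular odd rank: isometries of determinant one lift. -/
theorem lifts_of_odd (hn : Odd n) (β : Matrix (Fin n) (Fin n) R) (hβ : IsUnit (hd (qs β))) :
    Lifts β True := by
  classical
  intro S _ _ I hI M₀ h₀ _ hdet
  obtain ⟨m, hm⟩ := hn
  let r : Fin n := ⟨0, by omega⟩
  choose g hg using fun i j => Ideal.Quotient.mk_surjective (M₀ i j)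
  have hM₁ : (Matrix.of g).map (Ideal.Quotient.mk I) = M₀ := by ext i j; exact hg i j
  have hd1 : 1 - (Matrix.of g).det ∈ I := by
    rw [← Ideal.Quotient.eq, map_one, RingHom.map_det, RingHom.mapMatrix_apply, hM₁, hdet trivial]
  set τ := 1 - (Matrix.of g).det with hτ
  let E : Matrix (Fin n) (Fin n) S := τ • Matrix.single r r 1
  have hE : ∀ i j, E i j ∈ I := fun i j => I.mul_mem_right _ hd1
  let M := Matrix.of g * (1 + E)
  have hM : M.map (Ideal.Quotient.mk I) = M₀ := (map_one_add hE).trans hM₁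
  have hMdet : M.det = 1 := by
    rw [Matrix.det_mul, det_one_add_sq_zero _ fun i j a b => mul_eq_zero_of_mem hI (hE i j) (hE a b),
      Matrix.trace_smul, Matrix.trace_single_eq_same, smul_eq_mul, mul_one]
    linear_combination (-1 : S) * mul_eq_zero_of_mem hI hd1 hd1 + (0 : S) * hτ
  set βS := β.map (algebraMap R S) with hβS
  have hC := diff_mem hM h₀
  set δ := qs (Mᵀ * βS * M) - qs βS
  have hnodd : Odd n := ⟨m, hm⟩
  have hcS : IsUnit (hd (qs βS)) := by rw [hβS, qs_map, ← hd_map]; exact hβ.map _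
  have hDδ : dhd (qs βS) δ = 0 := by
    have h1 := hd_congr hnodd βS M
    rw [hMdet, one_pow, one_mul, show qs (Mᵀ * βS * M) = qs βS + δ by simp [δ],
      hd_add _ _ fun s t => mul_eq_zero_of_mem hI (hC s (Set.mem_univ _)) (hC t (Set.mem_univ _))] at h1
    linear_combination h1
  have hab : (1 : S) * n + (-(m : S)) * 2 = 1 := by rw [hm]; push_cast; ring
  -- a section on the basis
  have hsurj := surjective_linMap hnodd βS hcS r 1 (-(m : S)) hab
  choose sec hsec using fun s => hsurj (Pi.single s 1)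
  let ht : Matrix (Fin n) (Fin n) S × S := ∑ s, (-δ s) • sec s
  have hlin : linMap βS r 1 (-(m : S)) ht = -δ := by
    rw [map_sum]
    conv_rhs => rw [pi_eq_sum_univ (-δ)]
    refine Finset.sum_congr rfl fun s _ => ?_
    rw [map_smul, hsec]
    funext t
    simp [Pi.single_apply, eq_comm]
  rw [show ht = (ht.1, ht.2) from rfl, linMap_apply] at hlin
  have ht2 : ht.2 = 0 := by
    have h1 := congrArg (dhd (qs βS)) hlin
    rw [map_add, map_smul, map_add, map_smul, map_smul, dhd_polar hnodd, dhd_self hnodd,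
      dhd_polar hnodd, map_neg, hDδ, neg_zero, Matrix.trace_sub, Matrix.trace_smul,
      Matrix.trace_single_eq_same] at h1
    simp only [smul_eq_mul, mul_one, sub_self, mul_zero, zero_mul, zero_add, one_mul] at h1
    refine hcS.mul_left_eq_zero.1 ?_
    linear_combination h1 - ht.2 * hd (qs βS) * hab
  rw [ht2, zero_smul, add_zero] at hlin
  let h := ht.1 - ht.1.trace • Matrix.single r r 1
  have hht : ∀ i j, ht.1 i j ∈ I := fun i j => by
    simp only [ht, Prod.fst_sum, Matrix.sum_apply, Prod.smul_fst, Matrix.smul_apply, smul_eq_mul]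
    exact Ideal.sum_mem _ fun s _ => I.mul_mem_right _ (I.neg_mem (hC s (Set.mem_univ _)))
  have hh : ∀ i j, h i j ∈ I := fun i j => by
    simp only [h, Matrix.sub_apply, Matrix.smul_apply, smul_eq_mul]
    refine I.sub_mem (hht i j) (I.mul_mem_right _ (Ideal.sum_mem _ fun l _ => hht l l))
  refine ⟨M * (1 + h), (map_one_add hh).trans hM, correct hI hC hh hlin, ?_, fun _ => ?_⟩ <;>
  · rw [Matrix.det_mul, hMdet, one_mul,
      det_one_add_sq_zero _ fun i j a b => mul_eq_zero_of_mem hI (hh i j) (hh a b)]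
    simp [h]

open Polynomial in
/-- In odd rank over a base where two is not invertible, isometries do not all lift. -/
theorem not_lifts (hn : Odd n) (β : Matrix (Fin n) (Fin n) R) (hβ : IsUnit (hd (qs β)))
    (h2 : ¬ IsUnit (2 : R)) : ¬ Lifts β False := by
  classical
  intro hlift
  obtain ⟨𝔪, h𝔪, h2m⟩ := exists_max_ideal_of_mem_nonunits h2
  letI := Ideal.Quotient.field 𝔪
  let k := R ⧸ 𝔪
  let f := Ideal.Quotient.mk 𝔪
  have h2k : (2 : k) = 0 := by
    rw [← map_ofNat f 2]; exact Ideal.Quotient.eq_zero_iff_mem.2 h2m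
  obtain ⟨v, hv, hPv, hqv, -⟩ := kernel_props hn h2k (β.map f)
    (by rw [qs_map, ← hd_map]; exact (hβ.map f).ne_zero)
  obtain ⟨r, hr⟩ := Function.ne_iff.1 hv
  let S := AdjoinRoot ((X : k[X]) ^ 3)
  let t : S := AdjoinRoot.root _
  have ht3 : t ^ 3 = 0 := by
    have := AdjoinRoot.eval₂_root ((X : k[X]) ^ 3)
    rwa [eval₂_pow, eval₂_X] at this
  let I : Ideal S := Ideal.span {t ^ 2}
  have hI : I ^ 2 = ⊥ := by
    rw [Ideal.span_singleton_pow, Ideal.span_singleton_eq_bot]
    linear_combination t * ht3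
  let c : k →+* S := algebraMap k S
  let N : Matrix (Fin n) (Fin n) S := Matrix.of fun i j => t * c (if j = r then v i / v r else 0)
  let q := Ideal.Quotient.mk I
  let M₀ : Matrix (Fin n) (Fin n) (S ⧸ I) := (1 + N).map q
  have hβS : β.map (algebraMap R S) = (β.map f).map c := by ext i j; rfl
  set βS := β.map (algebraMap R S) with hβS'
  have hNsq : ∀ i j a b, q (N i j) * q (N a b) = 0 := fun i j a b => by
    rw [← map_mul]
    refine Ideal.Quotient.eq_zero_iff_mem.2 (Ideal.mem_span_singleton.2 ?_)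
    exact ⟨c (if j = r then v i / v r else 0) * c (if b = r then v a / v r else 0), by
      simp only [N, Matrix.of_apply]; ring⟩
  have hPN : (βS + βSᵀ) * N = 0 := by
    ext i j
    have h1 := congrArg c (congrFun hPv i)
    simp only [Matrix.mulVec, dotProduct, map_sum, map_mul, Pi.zero_apply, map_zero] at h1
    simp only [Matrix.mul_apply, Matrix.zero_apply]
    by_cases hj : j = r
    · calc ∑ l, (βS + βSᵀ) i l * N l j
          = ∑ l, t * c (v r)⁻¹ * (c ((β.map f + (β.map f)ᵀ) i l) * c (v l)) := by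
            refine Finset.sum_congr rfl fun l _ => ?_
            rw [hβS]
            simp only [N, Matrix.of_apply, if_pos hj, div_eq_mul_inv, map_mul, Matrix.add_apply,
              Matrix.transpose_apply, Matrix.map_apply, map_add]
            ring
        _ = 0 := by rw [← Finset.mul_sum, h1, mul_zero]
    · simp [N, hj]
  have hM₀ : qs (M₀ᵀ * β.map (algebraMap R (S ⧸ I)) * M₀) = qs (β.map (algebraMap R (S ⧸ I))) := by
    have e : M₀ = 1 + N.map q := by
      simp only [M₀]; rw [Matrix.map_add _ (map_add q), Matrix.map_one _ (map_zero q) (map_one q)]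
    rw [e, expand_congr _ (N.map q) hNsq, ← map_map_quot (S := S) (I := I), ← transpose_map,
      ← Matrix.map_add _ (map_add q), ← Matrix.map_mul, ← hβS', hPN]
    simp
  have hu : IsUnit M₀.det := by
    have e : M₀ = 1 + N.map q := by
      simp only [M₀]; rw [Matrix.map_add _ (map_add q), Matrix.map_one _ (map_zero q) (map_one q)]
    rw [e, det_one_add_sq_zero (N.map q) hNsq]
    refine IsUnit.of_mul_eq_one (1 - (N.map q).trace) ?_
    have : (N.map q).trace * (N.map q).trace = 0 := by
      simp only [Matrix.trace, Matrix.diag_apply, Finset.sum_mul, Finset.mul_sum, Matrix.map_apply]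
      exact Finset.sum_eq_zero fun i _ => Finset.sum_eq_zero fun j _ => hNsq _ _ _ _
    linear_combination -this
  obtain ⟨M, hM, hiso, -, -⟩ := hlift S I hI M₀ hM₀ hu (fun h => h.elim)
  let vS : Fin n → S := fun i => c (v i)
  have hMv : ∀ i, M.mulVec vS i - (1 + t) * vS i ∈ I := by
    intro i
    rw [← Ideal.Quotient.eq]
    have e : ∀ j, q (M i j) = q ((1 + N) i j) := fun j => congrFun (congrFun hM i) j
    have : q (M.mulVec vS i) = q ((1 + N).mulVec vS i) := by
      simp only [Matrix.mulVec, dotProduct, map_sum, map_mul, e]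
    rw [show Ideal.Quotient.mk I (M.mulVec vS i) = q (M.mulVec vS i) from rfl, this]
    congr 1
    rw [Matrix.add_mulVec, Matrix.one_mulVec, Pi.add_apply, add_mul, one_mul]
    congr 1
    simp only [Matrix.mulVec, dotProduct, N, Matrix.of_apply]
    rw [Finset.sum_eq_single r]
    · rw [if_pos rfl, mul_assoc, ← map_mul, div_mul_cancel₀ _ hr]
    · intro j _ hj; simp [hj]
    · simp
  set w := M.mulVec vS - (1 + t) • vS with hw
  have hwI : ∀ i, w i ∈ I := hMv
  have hq := matForm_eq_of_qs hiso vS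
  rw [← matForm_mulVec, show M *ᵥ vS = (1 + t) • vS + w by simp [hw], matForm_dot, matForm_dot,
    mulVec_add, add_dotProduct, dotProduct_add, dotProduct_add, mulVec_smul, dotProduct_smul,
    smul_dotProduct, smul_dotProduct, dotProduct_smul] at hq
  have hww : w ⬝ᵥ (βS *ᵥ w) = 0 := by
    simp only [dotProduct, Matrix.mulVec, Finset.mul_sum]
    refine Finset.sum_eq_zero fun i _ => Finset.sum_eq_zero fun j _ => ?_
    rw [mul_left_comm, mul_eq_zero_of_mem hI (hwI i) (hwI j), mul_zero]
  have hvw : vS ⬝ᵥ (βS *ᵥ w) + w ⬝ᵥ (βS *ᵥ vS) = 0 := by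
    have h1 : (βS + βSᵀ) *ᵥ vS = 0 := by
      funext i
      have h1 := congrArg c (congrFun hPv i)
      simp only [Matrix.mulVec, dotProduct, map_sum, map_mul, Pi.zero_apply, map_zero] at h1
      rw [Pi.zero_apply, ← h1, hβS]
      simp [Matrix.mulVec, dotProduct, vS]
    rw [dotProduct_mulVec vS, ← mulVec_transpose, dotProduct_comm (βSᵀ *ᵥ vS) w, ← dotProduct_add,
      ← add_mulVec, add_comm, h1, dotProduct_zero]
  have hvv : vS ⬝ᵥ (βS *ᵥ vS) = c (v ⬝ᵥ (β.map f *ᵥ v)) := by
    rw [hβS]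
    simp [dotProduct, Matrix.mulVec, vS, Finset.mul_sum]
  have h2S : (2 : S) = 0 := by rw [← map_ofNat c 2, h2k, map_zero]
  rw [← hβS'] at hq
  simp only [smul_eq_mul, hww, hvv] at hq
  have hfin : t ^ 2 * c (v ⬝ᵥ (β.map f *ᵥ v)) = 0 := by
    linear_combination hq - (1 + t) * hvw - (t * c (v ⬝ᵥ (β.map f *ᵥ v))) * h2S
  have hc : IsUnit (c (v ⬝ᵥ (β.map f *ᵥ v))) := (IsUnit.mk0 _ hqv).map c
  have ht2 : t ^ 2 = 0 := hc.mul_left_eq_zero.1 hfin
  change (AdjoinRoot.root ((X : k[X]) ^ 3)) ^ 2 = 0 at ht2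
  rw [← AdjoinRoot.mk_X, ← map_pow, AdjoinRoot.mk_eq_zero, Polynomial.X_pow_dvd_iff] at ht2
  simpa using ht2 2 (by norm_num)

end Groth.L15.OrthSm
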