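import Groth.Agent.L15.OrthSm.Pts
import Groth.Agent.L15.OrthSm.Lift
import Groth.Agent.L15.QG.BaseChange
import Mathlib.LinearAlgebra.TensorProduct.Basis
import Mathlib.RingTheory.Smooth.Basic
import Mathlib.RingTheory.FinitePresentation

/-!
Matrix presentation of a representation of the orthogonal groups, and the smoothness criterion.
-/

set_option autoImplicit false

noncomputable section

universe u

open CategoryTheory AlgebraicGeometry Matrix TensorProduct
open scoped MonObj

namespace Groth.L15.OrthSm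

variable {R : Type u} [CommRing R] {n : ℕ} (Q : QuadraticForm R (Fin n → R))

/-- The matrix of the chosen bilinear lift. -/
def bmat : Matrix (Fin n) (Fin n) R := LinearMap.toMatrix₂' R (QuadGrp.bilinLift Q)

theorem matForm_bmat : matForm (bmat Q) = Q := by
  rw [matForm, bmat, Matrix.toLinearMap₂'_toMatrix', QuadGrp.bilinLift_spec]

theorem isUnit_hd_of_semiregular
    (h : QuadGrp.IsSemiregular (Pi.basisFun R (Fin n)) (LinearEquiv.refl R R) Q) :
    IsUnit (hd (qs (bmat Q))) := by
  rw [← hd_matForm, matForm_bmat]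
  exact h

theorem isUnit_det_of_regular (h : QuadGrp.IsRegular Q) : IsUnit (bmat Q + (bmat Q)ᵀ).det := by
  classical
  rw [← Matrix.isUnit_iff_isUnit_det, ← Matrix.vecMul_surjective_iff_isUnit]
  intro w
  obtain ⟨x, hx⟩ := h.2 (∑ i, w i • LinearMap.proj i)
  refine ⟨x, funext fun j => ?_⟩
  have h1 := LinearMap.congr_fun hx (Pi.single j 1)
  rw [← matForm_bmat Q, QuadraticMap.polarBilin_apply_apply] at h1
  simp only [QuadraticMap.polar, matForm_dot, Matrix.mulVec_add, add_dotProduct, dotProduct_add,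
    LinearMap.sum_apply, LinearMap.smul_apply, LinearMap.proj_apply, Pi.single_apply, smul_eq_mul,
    mul_ite, mul_one, mul_zero, Finset.sum_ite_eq', Finset.mem_univ, if_true] at h1
  show (x ᵥ* (bmat Q + (bmat Q)ᵀ)) j = w j

  rw [← h1, Matrix.vecMul_add, Pi.add_apply, Matrix.vecMul_transpose]
  have e1 : x ⬝ᵥ (bmat Q *ᵥ Pi.single j 1) = (x ᵥ* bmat Q) j := by
    rw [dotProduct_mulVec, dotProduct_single, mul_one]
  have e2 : Pi.single j (1 : R) ⬝ᵥ (bmat Q *ᵥ x) = (bmat Q *ᵥ x) j := by
    rw [single_dotProduct, one_mul]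
  linear_combination -e1 - e2

variable (R) in
/-- The basis of `B ⊗ R^n`. -/
def bas (B : Type u) [CommRing B] [Algebra R B] : Module.Basis (Fin n) B (B ⊗[R] (Fin n → R)) :=
  Algebra.TensorProduct.basis B (Pi.basisFun R (Fin n))

section points

variable (B : Type u) [CommRing B] [Algebra R B]

theorem baseChangeForm_repr (v : B ⊗[R] (Fin n → R)) :
    QuadGrp.baseChangeForm B Q v = matForm ((bmat Q).map (algebraMap R B)) ((bas R B).repr v) := by
  have h : ∀ i j, TensorProduct.AlgebraTensorModule.rid R B B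
      ((QuadGrp.bilinLift Q).baseChange B (bas R B i) (bas R B j)) = algebraMap R B (bmat Q i j) := by
    intro i j
    rw [bas, Algebra.TensorProduct.basis_apply, Algebra.TensorProduct.basis_apply,
      LinearMap.BilinMap.baseChange_tmul, Pi.basisFun_apply, Pi.basisFun_apply, bmat,
      LinearMap.toMatrix₂'_apply, TensorProduct.AlgebraTensorModule.rid_tmul, one_mul,
      Algebra.algebraMap_eq_smul_one]
  conv_lhs => rw [← (bas R B).sum_repr v]
  rw [QuadGrp.baseChangeForm, LinearMap.compQuadraticMap_apply, QuadGrp.baseChange,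
    LinearMap.BilinMap.toQuadraticMap_apply, matForm_apply]
  simp only [map_sum, map_smul, LinearMap.sum_apply, LinearMap.smul_apply, Finset.smul_sum,
    LinearEquiv.coe_coe, smul_eq_mul, h, Matrix.map_apply]
  rw [Finset.sum_comm]
  exact Finset.sum_congr rfl fun i _ => Finset.sum_congr rfl fun j _ => by ring

/-- The matrix of an automorphism. -/
def mat (g : (B ⊗[R] (Fin n → R)) ≃ₗ[B] (B ⊗[R] (Fin n → R))) : Matrix (Fin n) (Fin n) B :=
  LinearMap.toMatrix (bas R B) (bas R B) g.toLinearMap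

theorem mat_injective : Function.Injective (mat (R := R) (n := n) B) := fun _ _ h =>
  LinearEquiv.toLinearMap_injective ((LinearMap.toMatrix _ _).injective h)

theorem repr_apply (g : (B ⊗[R] (Fin n → R)) ≃ₗ[B] (B ⊗[R] (Fin n → R))) (v : B ⊗[R] (Fin n → R)) :
    ((bas R B).repr (g v) : Fin n → B) = mat B g *ᵥ ((bas R B).repr v) :=
  (LinearMap.toMatrix_mulVec_repr (bas R B) (bas R B) g.toLinearMap v).symm

theorem mem_orth (g : (B ⊗[R] (Fin n → R)) ≃ₗ[B] (B ⊗[R] (Fin n → R))) :
    g ∈ QuadGrp.orth Q B ↔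
      qs ((mat B g)ᵀ * (bmat Q).map (algebraMap R B) * mat B g) = qs ((bmat Q).map (algebraMap R B)) := by
  rw [QuadGrp.orth, QuadGrp.mem_O]
  have hbc : ∀ v w, QuadGrp.baseChange B Q v = QuadGrp.baseChange B Q w ↔
      QuadGrp.baseChangeForm B Q v = QuadGrp.baseChangeForm B Q w := fun v w =>
    (TensorProduct.AlgebraTensorModule.rid R B B).injective.eq_iff.symm
  simp only [hbc, baseChangeForm_repr, repr_apply, matForm_mulVec]
  constructor
  · intro h
    rw [← coeffs_matForm, ← coeffs_matForm]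
    congr 1
    refine QuadraticMap.ext fun x => ?_
    have := h ((bas R B).equivFun.symm x)
    rwa [← Module.Basis.equivFun_apply, LinearEquiv.apply_symm_apply] at this
  · exact fun h v => matForm_eq_of_qs h _

theorem isUnit_mat_det (g : (B ⊗[R] (Fin n → R)) ≃ₗ[B] (B ⊗[R] (Fin n → R))) :
    IsUnit (mat B g).det := by
  rw [mat, LinearMap.det_toMatrix]
  exact LinearEquiv.isUnit_det' g

theorem det_eq_one_iff (g : (B ⊗[R] (Fin n → R)) ≃ₗ[B] (B ⊗[R] (Fin n → R))) :
    LinearEquiv.det g = 1 ↔ (mat B g).det = 1 := by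
  rw [mat, LinearMap.det_toMatrix, Units.ext_iff, LinearEquiv.coe_det, Units.val_one]

theorem exists_mat (M : Matrix (Fin n) (Fin n) B) (h : IsUnit M.det) :
    ∃ g : (B ⊗[R] (Fin n → R)) ≃ₗ[B] (B ⊗[R] (Fin n → R)), mat B g = M :=
  ⟨M.toLinearEquiv (bas R B) h, LinearMap.toMatrix_toLin _ _ M⟩

end points

theorem mat_natural {A B : Type u} [CommRing A] [Algebra R A] [CommRing B] [Algebra R B] (φ : A →ₐ[R] B)
    (g : (A ⊗[R] (Fin n → R)) ≃ₗ[A] (A ⊗[R] (Fin n → R)))
    (g' : (B ⊗[R] (Fin n → R)) ≃ₗ[B] (B ⊗[R] (Fin n → R)))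
    (h : ∀ m : Fin n → R, g' (1 ⊗ₜ[R] m) = LinearMap.rTensor (Fin n → R) φ.toLinearMap (g (1 ⊗ₜ[R] m))) :
    mat B g' = (mat A g).map φ := by
  have key : ∀ (v : A ⊗[R] (Fin n → R)) (i : Fin n),
      (bas R B).repr (LinearMap.rTensor (Fin n → R) φ.toLinearMap v) i = φ ((bas R A).repr v i) := by
    intro v i
    induction v using TensorProduct.induction_on with
    | zero => simp
    | tmul a m =>
      rw [LinearMap.rTensor_tmul, bas, bas, Algebra.TensorProduct.basis_repr_tmul,
        Algebra.TensorProduct.basis_repr_tmul]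
      simp
    | add x y hx hy =>
      rw [map_add, map_add, map_add, Finsupp.add_apply, Finsupp.add_apply, map_add, hx, hy]
  ext i j
  rw [Matrix.map_apply, mat, mat, LinearMap.toMatrix_apply, LinearMap.toMatrix_apply, ← key,
    LinearEquiv.coe_coe, LinearEquiv.coe_coe, bas, bas, Algebra.TensorProduct.basis_apply,
    Algebra.TensorProduct.basis_apply, h]

/-- A presentation of the points. -/
def Sol (β : Matrix (Fin n) (Fin n) R) (sp : Prop) (B : Type u) [CommRing B] [Algebra R B]
    (M : Matrix (Fin n) (Fin n) B) : Prop :=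
  qs (Mᵀ * β.map (algebraMap R B) * M) = qs (β.map (algebraMap R B)) ∧ IsUnit M.det ∧ (sp → M.det = 1)

section universal

variable (β : Matrix (Fin n) (Fin n) R) (sp : Prop)

/-- The generic matrix. -/
def genX : Matrix (Fin n) (Fin n) (MvPolynomial (Option (Fin n × Fin n)) R) :=
  Matrix.of fun i j => MvPolynomial.X (some (i, j))

/-- The equations. -/
def eqns : Ideal (MvPolynomial (Option (Fin n × Fin n)) R) :=
  Ideal.span {(genX (R := R) (n := n)).det * MvPolynomial.X none - 1} ⊔
    Ideal.span (Set.range fun s => qs ((genX (R := R) (n := n))ᵀ * β.map MvPolynomial.C * genX) s -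
      qs (β.map MvPolynomial.C) s) ⊔
    Ideal.span {p | sp ∧ p = (genX (R := R) (n := n)).det - 1}

/-- The coordinate ring. -/
abbrev Univ : Type u := MvPolynomial (Option (Fin n × Fin n)) R ⧸ eqns β sp

theorem fg_eqns : (eqns β sp).FG :=
  Submodule.FG.sup (Submodule.FG.sup (Submodule.fg_span (Set.finite_singleton _))
    (Submodule.fg_span (Set.finite_range _)))
    (Submodule.fg_span ((Set.finite_singleton ((genX (R := R) (n := n)).det - 1)).subset fun _ h => h.2))

theorem finitePresentation_univ : Algebra.FinitePresentation R (Univ β sp) :=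
  Algebra.FinitePresentation.quotient (fg_eqns β sp)

/-- The universal solution. -/
def univMat : Matrix (Fin n) (Fin n) (Univ β sp) := genX.map (Ideal.Quotient.mk (eqns β sp))

theorem sol_univMat : Sol β sp (Univ β sp) (univMat β sp) := by
  let q := Ideal.Quotient.mk (eqns β sp)
  have hdet : (univMat β sp).det = q (genX (R := R) (n := n)).det := by
    rw [univMat, RingHom.map_det]; rfl
  refine ⟨funext fun s => ?_, ?_, fun h => ?_⟩
  · have e : β.map (algebraMap R (Univ β sp)) = (β.map MvPolynomial.C).map q := by ext i j; rfl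
    rw [e, univMat, ← transpose_map, ← Matrix.map_mul, ← Matrix.map_mul, qs_map, qs_map,
      Function.comp_apply, Function.comp_apply, Ideal.Quotient.eq]
    exact Ideal.mem_sup_left (Ideal.mem_sup_right (Ideal.subset_span ⟨s, rfl⟩))
  · refine IsUnit.of_mul_eq_one (q (MvPolynomial.X none)) ?_
    rw [hdet, ← map_mul, ← map_one q, Ideal.Quotient.eq]
    exact Ideal.mem_sup_left (Ideal.mem_sup_left (Ideal.subset_span rfl))
  · rw [hdet, ← map_one q, Ideal.Quotient.eq]
    exact Ideal.mem_sup_right (Ideal.subset_span ⟨h, rfl⟩)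

variable {β sp} {B : Type u} [CommRing B] [Algebra R B]

theorem Sol.map {B' : Type u} [CommRing B'] [Algebra R B'] {M : Matrix (Fin n) (Fin n) B}
    (h : Sol β sp B M) (φ : B →ₐ[R] B') : Sol β sp B' (M.map φ) := by
  have hdet : (M.map φ).det = φ M.det := (AlgHom.map_det φ M).symm
  have e : β.map (algebraMap R B') = (β.map (algebraMap R B)).map φ := by
    ext i j; exact (φ.commutes (β i j)).symm
  refine ⟨?_, ?_, fun hs => ?_⟩
  · rw [e, ← transpose_map, show (φ : B → B') = (φ.toRingHom : B → B') from rfl, ← Matrix.map_mul,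
      ← Matrix.map_mul, qs_map, qs_map, h.1]
  · rw [hdet]; exact h.2.1.map φ
  · rw [hdet, h.2.2 hs, map_one]

theorem exists_hom {M : Matrix (Fin n) (Fin n) B} (h : Sol β sp B M) :
    ∃ φ : Univ β sp →ₐ[R] B, (univMat β sp).map φ = M := by
  let ψ : MvPolynomial (Option (Fin n × Fin n)) R →ₐ[R] B :=
    MvPolynomial.aeval fun o => o.elim (↑h.2.1.unit⁻¹ : B) fun p => M p.1 p.2
  have hX : (genX (R := R) (n := n)).map ψ = M := by
    ext i j; simp [genX, ψ]
  have hC : (β.map MvPolynomial.C).map ψ = β.map (algebraMap R B) := by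
    ext i j; simp [ψ]
  have hdet : ψ (genX (R := R) (n := n)).det = M.det := by
    rw [AlgHom.map_det]; exact congrArg Matrix.det hX
  have hker : eqns β sp ≤ RingHom.ker ψ := by
    refine sup_le (sup_le ?_ ?_) ?_ <;> refine Ideal.span_le.2 ?_
    · rintro p rfl
      rw [SetLike.mem_coe, RingHom.mem_ker, map_sub, map_mul, hdet, map_one, sub_eq_zero]
      simp [ψ]
    · rintro p ⟨s, rfl⟩
      rw [SetLike.mem_coe, RingHom.mem_ker, map_sub, sub_eq_zero]
      have e : ∀ T : Matrix (Fin n) (Fin n) (MvPolynomial (Option (Fin n × Fin n)) R),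
          ψ (qs T s) = qs (T.map ψ.toRingHom) s := fun T => by rw [qs_map]; rfl
      rw [e, e, Matrix.map_mul, Matrix.map_mul, transpose_map]
      exact (by rw [show (ψ.toRingHom : _ → B) = ψ from rfl, hX, hC, h.1] :
        qs (((genX (R := R) (n := n)).map ψ.toRingHom)ᵀ * (β.map MvPolynomial.C).map ψ.toRingHom *
          (genX (R := R) (n := n)).map ψ.toRingHom) s = qs ((β.map MvPolynomial.C).map ψ.toRingHom) s)
    · rintro p ⟨hs, rfl⟩
      rw [SetLike.mem_coe, RingHom.mem_ker, map_sub, map_one, hdet, h.2.2 hs, sub_self]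
  refine ⟨Ideal.Quotient.liftₐ _ ψ hker, ?_⟩
  ext i j
  exact (congrFun (congrFun hX i) j)

theorem hom_injective {φ φ' : Univ β sp →ₐ[R] B} (h : (univMat β sp).map φ = (univMat β sp).map φ') :
    φ = φ' := by
  refine Ideal.Quotient.algHom_ext _ (MvPolynomial.algHom_ext fun o => ?_)
  match o with
  | some (i, j) => exact congrFun (congrFun h i) j
  | none =>
    set y := Ideal.Quotient.mk (eqns β sp) (MvPolynomial.X none)
    have hy : (univMat β sp).det * y = 1 := by
      rw [univMat, ← RingHom.mapMatrix_apply, ← RingHom.map_det, ← map_mul,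
        ← map_one (Ideal.Quotient.mk (eqns β sp)), Ideal.Quotient.eq]
      exact Ideal.mem_sup_left (Ideal.mem_sup_left (Ideal.subset_span rfl))
    have h1 := congrArg φ hy
    have h2 := congrArg φ' hy
    rw [map_mul, map_one, AlgHom.map_det] at h1 h2
    simp only [AlgHom.mapMatrix_apply] at h1 h2
    rw [h] at h1
    show φ y = φ' y
    exact (IsUnit.of_mul_eq_one _ h2).mul_left_cancel (h1.trans h2.symm)

/-- Formal smoothness is the lifting property. -/
theorem formallySmooth_iff_lifts :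
    Algebra.FormallySmooth R (Univ β sp) ↔ Lifts β sp := by
  rw [Algebra.FormallySmooth.iff_comp_surjective]
  constructor
  · intro hs S _ _ I hI M₀ h1 h2 h3
    obtain ⟨f, hf⟩ := exists_hom (B := S ⧸ I) ⟨h1, h2, h3⟩
    obtain ⟨φ, hφ⟩ := hs I hI f
    refine ⟨(univMat β sp).map φ, ?_, (sol_univMat β sp).map φ⟩
    rw [← hf, ← hφ]
    rfl
  · intro hl S _ _ I hI f
    obtain ⟨h1, h2, h3⟩ := (sol_univMat β sp).map f
    obtain ⟨M, hM, h⟩ := hl S I hI _ h1 h2 h3
    obtain ⟨φ, hφ⟩ := exists_hom h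
    refine ⟨φ, hom_injective ?_⟩
    rw [← hM, ← hφ]
    rfl

end universal

/-- The criterion. -/
theorem smooth_iff_lifts
    (S : ∀ (A : Type u) [CommRing A] [Algebra R A],
      Subgroup ((A ⊗[R] (Fin n → R)) ≃ₗ[A] (A ⊗[R] (Fin n → R))))
    (sp : Prop)
    (hS : ∀ (A : Type u) [CommRing A] [Algebra R A] (g), g ∈ S A ↔
      g ∈ QuadGrp.orth Q A ∧ (sp → LinearEquiv.det g = 1))
    (G : Over (Spec (CommRingCat.of R))) [GrpObj G] (D : QuadGrp.LinRep R (Fin n → R) S G) :
    Smooth G.hom ↔ Lifts (bmat Q) sp := by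
  have hsol : ∀ (B : Type u) [CommRing B] [Algebra R B] (g : S B), Sol (bmat Q) sp B (mat B g.1) :=
    fun B _ _ g => ⟨(mem_orth Q B g.1).1 ((hS B g.1).1 g.2).1, isUnit_mat_det B g.1,
      fun h => (det_eq_one_iff B g.1).1 (((hS B g.1).1 g.2).2 h)⟩
  obtain ⟨g₀, hg₀⟩ := exists_mat (R := R) (Univ (bmat Q) sp) _ (sol_univMat (bmat Q) sp).2.1
  have hg₀S : g₀ ∈ S (Univ (bmat Q) sp) := (hS _ g₀).2
    ⟨(mem_orth Q _ g₀).2 (hg₀ ▸ (sol_univMat (bmat Q) sp).1),
      fun h => (det_eq_one_iff _ g₀).2 (hg₀ ▸ (sol_univMat (bmat Q) sp).2.2 h)⟩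
  let y := (D.pts (Univ (bmat Q) sp)).symm ⟨g₀, hg₀S⟩
  have hy : ∀ (B : Type u) [CommRing B] [Algebra R B] (φ : Univ (bmat Q) sp →ₐ[R] B),
      mat B (D.pts B (QuadGrp.specOverMap R φ ≫ y)).1 = (univMat (bmat Q) sp).map φ := by
    intro B _ _ φ
    rw [mat_natural φ _ _ (D.natural _ B φ y), MulEquiv.apply_symm_apply, hg₀]
  haveI := finitePresentation_univ (bmat Q) sp
  refine (smooth_iff_formallySmooth R (Univ (bmat Q) sp) G y ?_).trans formallySmooth_iff_lifts
  intro B _ _
  refine ⟨fun φ φ' h => hom_injective ?_, fun m => ?_⟩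
  · rw [← hy B φ, ← hy B φ']
    exact congrArg (fun z => mat B (D.pts B z).1) h
  · obtain ⟨φ, hφ⟩ := exists_hom (hsol B (D.pts B m))
    exact ⟨φ, (D.pts B).injective (Subtype.ext (mat_injective B ((hy B φ).trans hφ)))⟩

theorem smooth_orth_iff (G : Over (Spec (CommRingCat.of R))) [GrpObj G] (D : QuadGrp.OrthRep Q G) :
    Smooth G.hom ↔ Lifts (bmat Q) False :=
  smooth_iff_lifts Q _ False (fun _ _ _ _ => ⟨fun h => ⟨h, fun h' => h'.elim⟩, And.left⟩) G D

theorem smooth_sorth'_iff (G : Over (Spec (CommRingCat.of R))) [GrpObj G] (D : QuadGrp.SOrth'Rep Q G) :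
    Smooth G.hom ↔ Lifts (bmat Q) True :=
  smooth_iff_lifts Q _ True (fun _ _ _ g => by
    simp only [QuadGrp.sorth', QuadGrp.SO', Subgroup.mem_inf, MonoidHom.mem_ker]
    exact ⟨fun h => ⟨h.1, fun _ => h.2⟩, fun h => ⟨h.1, h.2 trivial⟩⟩) G D

end Groth.L15.OrthSm
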