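import Groth.Prelude.Def_QuadGrp2
import Mathlib.AlgebraicGeometry.Morphisms.Smooth

/-!
A morphism inducing bijections on affine points is an isomorphism; smoothness of affine schemes.
-/

set_option autoImplicit false

noncomputable section

universe u

open CategoryTheory AlgebraicGeometry Limits

namespace Groth.L15.OrthSm

/-- A morphism of schemes bijective on points with values in affine schemes is an isomorphism. -/
theorem isIso_of_bijective_points {X Y : Scheme.{u}} (u : X ⟶ Y)
    (h : ∀ (B : CommRingCat.{u}) (g : Spec B ⟶ Y), ∃! w : Spec B ⟶ X, w ≫ u = g) : IsIso u := by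
  let 𝒰 := Y.affineCover
  have hext : ∀ {Z : Scheme.{u}} (a b : Z ⟶ X), a ≫ u = b ≫ u → a = b := by
    intro Z a b hab
    refine Z.affineCover.hom_ext _ _ fun i => ?_
    exact (h _ (Z.affineCover.f i ≫ a ≫ u)).unique (Category.assoc _ _ _)
      ((Category.assoc _ _ _).trans (congrArg _ hab.symm))
  have hex : ∀ i : 𝒰.I₀, ∃ w : 𝒰.X i ⟶ X, w ≫ u = 𝒰.f i := fun i => (h _ (𝒰.f i)).exists
  choose w hw using hex
  let v : Y ⟶ X := 𝒰.glueMorphisms w fun i j => hext _ _ (by
    simp only [Category.assoc, hw, pullback.condition])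
  have hv : v ≫ u = 𝟙 Y := 𝒰.hom_ext _ _ fun i => by
    rw [Scheme.Cover.ι_glueMorphisms_assoc, hw, Category.comp_id]
  exact ⟨v, hext _ _ (by rw [Category.assoc, hv, Category.comp_id, Category.id_comp]), hv⟩

/-- A representing `Spec A` gives the smoothness criterion. -/
theorem smooth_iff_formallySmooth (R : Type u) [CommRing R] (A : Type u) [CommRing A] [Algebra R A]
    [Algebra.FinitePresentation R A] (G : Over (Spec (CommRingCat.of R)))
    (y : QuadGrp.specOver R A ⟶ G)
    (h : ∀ (B : Type u) [CommRing B] [Algebra R B],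
      Function.Bijective fun φ : A →ₐ[R] B => QuadGrp.specOverMap R φ ≫ y) :
    Smooth G.hom ↔ Algebra.FormallySmooth R A := by
  haveI : IsIso y.left := by
    refine isIso_of_bijective_points (X := Spec (CommRingCat.of A)) y.left fun B g => ?_
    obtain ⟨f, hf⟩ : ∃ f, Spec.map f = g ≫ G.hom := ⟨Spec.preimage _, Spec.map_preimage _⟩
    letI : Algebra R B := f.hom.toAlgebra
    let g' : QuadGrp.specOver R B ⟶ G := Over.homMk g hf.symm
    obtain ⟨φ, hφ, -⟩ := (h B).existsUnique g'
    refine ⟨Spec.map (CommRingCat.ofHom φ.toRingHom), congrArg Over.Hom.left hφ, fun w hw => ?_⟩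
    obtain ⟨ψ₀, rfl⟩ : ∃ ψ₀, Spec.map ψ₀ = w := ⟨Spec.preimage _, Spec.map_preimage _⟩
    have hstr : (CommRingCat.ofHom (algebraMap R A)) ≫ ψ₀ = f := by
      apply Spec.map_injective
      rw [Spec.map_comp, hf, ← hw]
      exact (congrArg (Spec.map ψ₀ ≫ ·) (Over.w y).symm).trans (Category.assoc _ _ _).symm
    let ψ : A →ₐ[R] B :=
      { ψ₀.hom with commutes' := fun r => congrArg (fun t : CommRingCat.of R ⟶ B => t.hom r) hstr }
    have : ψ = φ := (h B).1 (by
      change QuadGrp.specOverMap R ψ ≫ y = QuadGrp.specOverMap R φ ≫ y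
      rw [show QuadGrp.specOverMap R φ ≫ y = g' from hφ]
      exact Over.OverMorphism.ext hw)
    rw [← this]
    rfl
  have e : y.left ≫ G.hom = Spec.map (CommRingCat.ofHom (algebraMap R A)) := Over.w y
  have h2 : Smooth G.hom ↔ Smooth (Spec.map (CommRingCat.ofHom (algebraMap R A))) := by
    constructor
    · intro _
      exact e ▸ (inferInstance : Smooth (y.left ≫ G.hom))
    · intro hs
      haveI : Smooth (y.left ≫ G.hom) := e.symm ▸ hs
      have h3 : Smooth (inv y.left ≫ y.left ≫ G.hom) := inferInstance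
      rwa [IsIso.inv_hom_id_assoc] at h3
  refine h2.trans ((HasRingHomProperty.Spec_iff (P := @Smooth)).trans ?_)
  rw [CommRingCat.hom_ofHom, RingHom.smooth_algebraMap]
  exact ⟨fun h => h.formallySmooth, fun h => ⟨h, inferInstance⟩⟩

end Groth.L15.OrthSm
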