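import Groth.Agent.L15.QuadHalf
import Mathlib.Algebra.TrivSqZeroExt
import Mathlib.Algebra.MvPolynomial.PDeriv
import Mathlib.LinearAlgebra.Matrix.Trace
import Mathlib.LinearAlgebra.Matrix.Adjugate
import Mathlib.RingTheory.Jacobson.Ideal

/-!
Coefficient vectors of quadratic forms given by matrices, and first-order expansions.
-/

set_option autoImplicit false

noncomputable section

universe u v

open Matrix

namespace Groth.L15.OrthSm

variable {S : Type u} [CommRing S] {n : ℕ}

/-- The coefficients of `x ↦ xᵀ T x`. -/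
def qs : Matrix (Fin n) (Fin n) S →ₗ[S] Sym2 (Fin n) → S where
  toFun T := Sym2.lift ⟨fun i j => if i = j then T i i else T i j + T j i, fun i j => by
    by_cases h : i = j
    · subst h; rfl
    · simp only [if_neg h, if_neg (Ne.symm h)]
      rw [add_comm]⟩
  map_add' T T' := by
    funext s
    induction s using Sym2.ind with
    | _ i j => by_cases h : i = j <;> simp [h, add_add_add_comm]
  map_smul' c T := by
    funext s
    induction s using Sym2.ind with
    | _ i j => by_cases h : i = j <;> simp [h, mul_add]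

theorem qs_mk (T : Matrix (Fin n) (Fin n) S) (i j : Fin n) :
    qs T s(i, j) = if i = j then T i i else T i j + T j i := rfl

theorem qs_transpose (T : Matrix (Fin n) (Fin n) S) : qs Tᵀ = qs T := by
  funext s
  induction s using Sym2.ind with
  | _ i j => by_cases h : i = j <;> simp [qs_mk, h, add_comm]

theorem qs_map {S' : Type v} [CommRing S'] (f : S →+* S') (T : Matrix (Fin n) (Fin n) S) :
    qs (T.map f) = f ∘ qs T := by
  funext s
  induction s using Sym2.ind with
  | _ i j => by_cases h : i = j <;> simp [qs_mk, h]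

/-- An upper triangular representative. -/
def up : (Sym2 (Fin n) → S) →ₗ[S] Matrix (Fin n) (Fin n) S where
  toFun δ := Matrix.of fun i j => if i ≤ j then δ s(i, j) else 0
  map_add' δ δ' := by ext i j; by_cases h : i ≤ j <;> simp [h]
  map_smul' c δ := by ext i j; by_cases h : i ≤ j <;> simp [h]

theorem qs_up (δ : Sym2 (Fin n) → S) : qs (up δ) = δ := by
  funext s
  induction s using Sym2.ind with
  | _ i j =>
    rw [qs_mk]
    by_cases h : i = j
    · subst h; simp [up]
    · rw [if_neg h]
      rcases lt_or_gt_of_ne h with h' | h'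
      · simp [up, h'.le, not_le.2 h']
      · simp [up, h'.le, not_le.2 h', Sym2.eq_swap]

theorem qs_eq_zero_symm {T : Matrix (Fin n) (Fin n) S} (h : qs T = 0) : T + Tᵀ = 0 := by
  ext i j
  have := congrFun h s(i, j)
  rw [qs_mk, Pi.zero_apply] at this
  by_cases hij : i = j
  · subst hij; rw [if_pos rfl] at this; simp [this]
  · rw [if_neg hij] at this; simpa using this

theorem qs_eq_of_eq {T T' : Matrix (Fin n) (Fin n) S} (h : qs T = qs T') : T + Tᵀ = T' + T'ᵀ := by
  have := qs_eq_zero_symm (T := T - T') (by rw [map_sub, h, sub_self])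
  rw [transpose_sub] at this
  rw [← sub_eq_zero, ← this]
  abel

theorem matForm_dot (T : Matrix (Fin n) (Fin n) S) (x : Fin n → S) :
    matForm T x = x ⬝ᵥ (T *ᵥ x) := by
  rw [matForm_apply]
  simp [dotProduct, Matrix.mulVec, Finset.mul_sum, mul_assoc]

theorem coeffs_matForm (T : Matrix (Fin n) (Fin n) S) :
    QuadGrp.coeffs (Pi.basisFun S (Fin n)) (LinearEquiv.refl S S) (matForm T) = qs T := by
  funext s
  induction s using Sym2.ind with
  | _ i j =>
    rw [QuadGrp.coeffs_mk, qs_mk]
    by_cases h : i = j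
    · subst h
      rw [if_pos rfl, if_pos rfl, matForm_dot]
      simp [Pi.basisFun_apply]
    · rw [if_neg h, if_neg h]
      exact polar_matForm T i j

/-- Forms with the same coefficients agree. -/
theorem matForm_eq_of_qs {T T' : Matrix (Fin n) (Fin n) S} (h : qs T = qs T') (x : Fin n → S) :
    matForm T x = matForm T' x := by
  suffices h0 : ∀ C : Matrix (Fin n) (Fin n) S, qs C = 0 → matForm C x = 0 by
    have := h0 (T - T') (by rw [map_sub, h, sub_self])
    rw [matForm_dot, Matrix.sub_mulVec, dotProduct_sub, sub_eq_zero] at this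
    rw [matForm_dot, matForm_dot, this]
  intro C hC
  rw [matForm_apply, ← Finset.sum_product']
  refine Finset.sum_involution (fun p _ => (p.2, p.1)) ?_ ?_ (fun _ _ => Finset.mem_univ _)
    fun _ _ => rfl
  · rintro ⟨i, j⟩ _
    have := congrFun (congrFun (qs_eq_zero_symm hC) i) j
    simp only [Matrix.add_apply, Matrix.transpose_apply, Matrix.zero_apply] at this
    linear_combination (x i * x j) * this
  · rintro ⟨i, j⟩ _ hne heq
    simp only [Prod.mk.injEq] at heq
    obtain ⟨rfl, -⟩ := heq
    have := congrFun hC s(j, j)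
    rw [qs_mk, if_pos rfl, Pi.zero_apply] at this
    exact hne (by simp [this])

theorem matForm_mulVec (T M : Matrix (Fin n) (Fin n) S) (x : Fin n → S) :
    matForm T (M *ᵥ x) = matForm (Mᵀ * T * M) x := by
  rw [matForm_dot, matForm_dot, ← mulVec_mulVec, ← mulVec_mulVec, dotProduct_mulVec x Mᵀ,
    vecMul_transpose]

theorem qs_congr_mul {T T' : Matrix (Fin n) (Fin n) S} (h : qs T = qs T')
    (M : Matrix (Fin n) (Fin n) S) : qs (Mᵀ * T * M) = qs (Mᵀ * T' * M) := by
  rw [← coeffs_matForm, ← coeffs_matForm]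
  congr 1
  refine QuadraticMap.ext fun x => ?_
  rw [← matForm_mulVec, ← matForm_mulVec, matForm_eq_of_qs h]

/-- The half-discriminant polynomial at a coefficient vector. -/
def hd (c : Sym2 (Fin n) → S) : S :=
  MvPolynomial.eval₂ (Int.castRingHom S) c (QuadGrp.halfDiscUniv n)

theorem hd_matForm (T : Matrix (Fin n) (Fin n) S) :
    QuadGrp.halfDisc (Pi.basisFun S (Fin n)) (LinearEquiv.refl S S) (matForm T) = hd (qs T) := by
  rw [QuadGrp.halfDisc, coeffs_matForm]; rfl

theorem hd_map {S' : Type v} [CommRing S'] (f : S →+* S') (c : Sym2 (Fin n) → S) :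
    f (hd c) = hd (f ∘ c) := by
  rw [hd, hd, MvPolynomial.eval₂_comp_left,
    RingHom.ext_int (f.comp (Int.castRingHom S)) (Int.castRingHom S')]

theorem hd_congr (hn : Odd n) (T M : Matrix (Fin n) (Fin n) S) :
    hd (qs (Mᵀ * T * M)) = M.det ^ 2 * hd (qs T) := by
  rw [← hd_matForm, ← hd_matForm, ← LinearMap.det_toLin' M,
    ← halfDisc_comp hn (Pi.basisFun S (Fin n)) (matForm T) (Matrix.toLin' M)]
  congr 1
  refine QuadraticMap.ext fun x => ?_
  rw [QuadraticMap.comp_apply, Matrix.toLin'_apply, matForm_mulVec]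

theorem two_mul_hd (hn : Odd n) (T : Matrix (Fin n) (Fin n) S) : 2 * hd (qs T) = (T + Tᵀ).det := by
  rw [← hd_matForm, two_mul_halfDisc hn]
  congr 1
  ext i j
  exact polar_matForm T i j

/-- The first order term of `hd` at `c`. -/
def dhd (c : Sym2 (Fin n) → S) : (Sym2 (Fin n) → S) →ₗ[S] S where
  toFun δ := ∑ s, MvPolynomial.eval₂ (Int.castRingHom S) c
    (MvPolynomial.pderiv s (QuadGrp.halfDiscUniv n)) * δ s
  map_add' δ δ' := by simp [mul_add, Finset.sum_add_distrib]
  map_smul' a δ := by simp [Finset.mul_sum]; exact Finset.sum_congr rfl fun s _ => by ring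

theorem eval₂_add_sq_zero {σ : Type} [Fintype σ] [DecidableEq σ] (c δ : σ → S)
    (hδ : ∀ s t, δ s * δ t = 0) (P : MvPolynomial σ ℤ) :
    MvPolynomial.eval₂ (Int.castRingHom S) (c + δ) P =
      MvPolynomial.eval₂ (Int.castRingHom S) c P +
        ∑ s, MvPolynomial.eval₂ (Int.castRingHom S) c (MvPolynomial.pderiv s P) * δ s := by
  induction P using MvPolynomial.induction_on with
  | C a => simp only [MvPolynomial.eval₂_C, MvPolynomial.pderiv_C, MvPolynomial.eval₂_zero, zero_mul, Finset.sum_const_zero, add_zero]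
  | add p q hp hq =>
    simp only [MvPolynomial.eval₂_add, map_add, add_mul, Finset.sum_add_distrib, hp, hq]
    ring
  | mul_X p i hp =>
    have h0 : ∀ a : S, (∑ s, a * δ s) * δ i = 0 := fun a => by
      rw [Finset.sum_mul]; exact Finset.sum_eq_zero fun s _ => by rw [mul_assoc, hδ, mul_zero]
    have h1 : (∑ s, MvPolynomial.eval₂ (Int.castRingHom S) c (MvPolynomial.pderiv s p) * δ s) * δ i = 0 := by
      rw [Finset.sum_mul]; exact Finset.sum_eq_zero fun s _ => by rw [mul_assoc, hδ, mul_zero]
    simp only [MvPolynomial.eval₂_mul, MvPolynomial.eval₂_X, hp, Pi.add_apply,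
      MvPolynomial.pderiv_mul, MvPolynomial.eval₂_add, add_mul, Finset.sum_add_distrib]
    rw [Finset.sum_eq_single (f := fun s => MvPolynomial.eval₂ (Int.castRingHom S) c p *
        MvPolynomial.eval₂ (Int.castRingHom S) c (MvPolynomial.pderiv s (MvPolynomial.X i)) * δ s) i]
    · simp only [MvPolynomial.pderiv_X_self, MvPolynomial.eval₂_one, mul_one]
      have h2 : ∑ s, MvPolynomial.eval₂ (Int.castRingHom S) c (MvPolynomial.pderiv s p) * c i * δ s =
          (∑ s, MvPolynomial.eval₂ (Int.castRingHom S) c (MvPolynomial.pderiv s p) * δ s) * c i := by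
        rw [Finset.sum_mul]; exact Finset.sum_congr rfl fun s _ => by ring
      rw [h2]
      linear_combination h1
    · intro s _ hs
      rw [MvPolynomial.pderiv_X_of_ne (Ne.symm hs)]
      simp
    · simp

theorem hd_add (c δ : Sym2 (Fin n) → S) (hδ : ∀ s t, δ s * δ t = 0) :
    hd (c + δ) = hd c + dhd c δ := eval₂_add_sq_zero c δ hδ _

theorem dhd_map {S' : Type v} [CommRing S'] (f : S →+* S') (c δ : Sym2 (Fin n) → S) :
    f (dhd c δ) = dhd (f ∘ c) (f ∘ δ) := by
  simp only [dhd, LinearMap.coe_mk, AddHom.coe_mk, map_sum, map_mul, MvPolynomial.eval₂_comp_left,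
    RingHom.ext_int (f.comp (Int.castRingHom S)) (Int.castRingHom S'), Function.comp_apply]

/-- A matrix with entries in a square-zero ideal: `det (1 + h) = 1 + trace h`. -/
theorem det_one_add_sq_zero {ι : Type} [Fintype ι] [DecidableEq ι] (h : Matrix ι ι S)
    (hh : ∀ i j k l, h i j * h k l = 0) : (1 + h).det = 1 + h.trace := by
  classical
  rw [Matrix.det_apply', Finset.sum_eq_single (1 : Equiv.Perm ι)]
  · have hprod : ∀ s : Finset ι, ∏ i ∈ s, (1 + h i i) = 1 + ∑ i ∈ s, h i i := by
      intro s
      induction s using Finset.induction_on with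
      | empty => simp
      | insert a s ha ih =>
        rw [Finset.prod_insert ha, Finset.sum_insert ha, ih]
        have : h a a * ∑ i ∈ s, h i i = 0 := by
          rw [Finset.mul_sum]; exact Finset.sum_eq_zero fun i _ => hh _ _ _ _
        linear_combination this
    simpa [Matrix.trace] using hprod Finset.univ
  · intro σ _ hσ
    obtain ⟨i, hi⟩ : ∃ i, σ i ≠ i := by
      by_contra hc
      push Not at hc
      exact hσ (Equiv.ext hc)
    have hi' : σ (σ i) ≠ σ i := fun h' => hi (σ.injective h')
    have hmem : σ i ∈ Finset.univ.erase i := Finset.mem_erase.2 ⟨hi, Finset.mem_univ _⟩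
    rw [← Finset.mul_prod_erase _ _ (Finset.mem_univ i),
      ← Finset.mul_prod_erase _ _ hmem, ← mul_assoc ((1 + h) (σ i) i)]
    simp [Matrix.one_apply_ne hi, Matrix.one_apply_ne hi', hh]
  · simp

theorem expand_congr (γ h : Matrix (Fin n) (Fin n) S) (hh : ∀ i j k l, h i j * h k l = 0) :
    qs ((1 + h)ᵀ * γ * (1 + h)) = qs γ + qs ((γ + γᵀ) * h) := by
  have h0 : hᵀ * γ * h = 0 := by
    ext i j
    simp only [Matrix.mul_apply, Finset.sum_mul, Matrix.transpose_apply, Matrix.zero_apply]
    refine Finset.sum_eq_zero fun a _ => Finset.sum_eq_zero fun b _ => ?_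
    linear_combination (γ b a) * hh b i a j
  have e : (1 + h)ᵀ * γ * (1 + h) = γ + γ * h + hᵀ * γ := by
    rw [transpose_add, transpose_one]
    simp only [Matrix.add_mul, Matrix.mul_add, Matrix.one_mul, Matrix.mul_one, h0, add_zero]
    abel
  have e2 : qs (hᵀ * γ) = qs (γᵀ * h) := by
    rw [← qs_transpose (hᵀ * γ), transpose_mul, transpose_transpose]
  rw [e, map_add, map_add, e2, Matrix.add_mul, map_add]
  abel

open TrivSqZeroExt in
theorem dhd_polar (hn : Odd n) (β h : Matrix (Fin n) (Fin n) S) :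
    dhd (qs β) (qs ((β + βᵀ) * h)) = 2 * h.trace * hd (qs β) := by
  let ι : S →+* TrivSqZeroExt S S := TrivSqZeroExt.inlHom S S
  let ε : TrivSqZeroExt S S := inr 1
  have hε : ε * ε = 0 := TrivSqZeroExt.inr_mul_inr _ _ _
  let H : Matrix (Fin n) (Fin n) (TrivSqZeroExt S S) := ε • h.map ι
  have hH : ∀ i j k l, H i j * H k l = 0 := fun i j k l => by
    simp only [H, Matrix.smul_apply, Matrix.map_apply, smul_eq_mul]
    linear_combination (ι (h i j) * ι (h k l)) * hε
  have h1 := hd_congr hn (β.map ι) (1 + H)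
  rw [expand_congr _ _ hH, det_one_add_sq_zero _ hH, qs_map, hd_add, ← hd_map] at h1
  · have e1 : ((β.map ι) + (β.map ι)ᵀ) * H = ε • ((β + βᵀ) * h).map ι := by
      simp only [H, Matrix.mul_smul, Matrix.map_mul, Matrix.transpose_map,
        Matrix.map_add _ (map_add ι)]
    rw [e1, map_smul, qs_map, map_smul, ← dhd_map] at h1
    have e2 : H.trace = ε * ι h.trace := by
      simp only [H, Matrix.trace, map_sum, Finset.mul_sum, Matrix.diag_apply, Matrix.smul_apply,
        Matrix.map_apply, smul_eq_mul]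
    rw [e2, smul_eq_mul] at h1
    have h2 := congrArg TrivSqZeroExt.snd h1
    simp [ι, ε, pow_two, mul_comm, mul_left_comm, two_mul, add_mul, mul_add] at h2 ⊢
    linear_combination h2
  · intro s t
    have e1 : ((β.map ι) + (β.map ι)ᵀ) * H = ε • (((β.map ι) + (β.map ι)ᵀ) * h.map ι) := by
      simp only [H, Matrix.mul_smul]
    rw [e1, map_smul]
    simp only [Pi.smul_apply, smul_eq_mul]
    linear_combination (qs (((β.map ι) + (β.map ι)ᵀ) * h.map ι) s *
      qs (((β.map ι) + (β.map ι)ᵀ) * h.map ι) t) * hε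

theorem hd_smul (hn : Odd n) (lam : S) (T : Matrix (Fin n) (Fin n) S) :
    hd (qs (lam • T)) = lam ^ n * hd (qs T) := by
  let P := MvPolynomial (Option (Fin n × Fin n)) ℤ
  let φ : P →+* S := MvPolynomial.eval₂Hom (Int.castRingHom S)
    fun o => o.elim lam fun p => T p.1 p.2
  let T' : Matrix (Fin n) (Fin n) P := Matrix.of fun i j => MvPolynomial.X (some (i, j))
  have h2 : (2 : P) ≠ 0 := by
    rw [← map_ofNat (MvPolynomial.C (R := ℤ)) 2, Ne, MvPolynomial.C_eq_zero]; norm_num
  have key : hd (qs ((MvPolynomial.X none : P) • T')) = (MvPolynomial.X none) ^ n * hd (qs T') := by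
    refine mul_left_cancel₀ h2 ?_
    rw [two_mul_hd hn, mul_left_comm, two_mul_hd hn, transpose_smul, ← smul_add, Matrix.det_smul,
      Fintype.card_fin]
  have := congrArg φ key
  rw [hd_map, map_mul, map_pow, hd_map, ← qs_map, ← qs_map] at this
  have e0 : ∀ o, φ (MvPolynomial.X o) = o.elim lam fun p => T p.1 p.2 := fun o =>
    MvPolynomial.eval₂_X _ _ _
  have e1 : T'.map φ = T := by ext i j; exact e0 (some (i, j))
  have e2 : ((MvPolynomial.X none : P) • T').map φ = lam • T := by
    ext i j
    rw [Matrix.map_apply, Matrix.smul_apply, Matrix.smul_apply, smul_eq_mul, map_mul, e0, smul_eq_mul]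
    exact congrArg (lam * ·) (e0 (some (i, j)))
  have e3 : φ (MvPolynomial.X none) = lam := e0 none
  rwa [e1, e2, e3] at this

open TrivSqZeroExt in
theorem dhd_self (hn : Odd n) (β : Matrix (Fin n) (Fin n) S) :
    dhd (qs β) (qs β) = n * hd (qs β) := by
  let ι : S →+* TrivSqZeroExt S S := TrivSqZeroExt.inlHom S S
  let ε : TrivSqZeroExt S S := inr 1
  have hε : ε * ε = 0 := TrivSqZeroExt.inr_mul_inr _ _ _
  have hp : ∀ m : ℕ, (1 + ε) ^ m = 1 + (m : TrivSqZeroExt S S) * ε := by
    intro m
    induction m with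
    | zero => simp
    | succ m ih => rw [pow_succ, ih, Nat.cast_succ]; linear_combination (m : TrivSqZeroExt S S) * hε
  have h1 := hd_smul hn (1 + ε) (β.map ι)
  rw [map_smul, qs_map, add_smul, one_smul, hp, hd_add, ← hd_map, map_smul, ← dhd_map] at h1
  · rw [smul_eq_mul] at h1
    have h2 := congrArg TrivSqZeroExt.snd h1
    simpa [ι, ε, mul_comm, add_mul] using h2
  · intro s t
    simp only [Pi.smul_apply, Function.comp_apply, smul_eq_mul]
    linear_combination (ι (qs β s) * ι (qs β t)) * hε

end Groth.L15.OrthSm
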